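import Cfsg.Agent.H614.AltBlk
import Cfsg.Agent.S4652
import Cfsg.Agent.S4736
import Cfsg.Agent.Blocks.PrincipalSection
import Cfsg.Agent.OddOrderCharacters.PF9.GaloisClifford
import Cfsg.Agent.H316.HT.Defs

/-!
# S4933, the alternating groups themselves

* `rowIn_alt` : `RowIn p (A_n)`, from the heights in the blocks of the alternating groups.
-/

set_option autoImplicit false

namespace Cfsg.Agent.H93.HT

open Cfsg Cfsg.Agent.H614 Cfsg.Agent.H316.HT

universe u

/-- a commutative group has no character of degree `p ^ a > 1` -/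
theorem not_cd {p a : ℕ} (hp : p.Prime) (ha : 0 < a) {P : Type u} [Group P] [Finite P] (hc : IsMulCommutative P) :
    ¬ CD p a P := by
  rintro ⟨-, φ, hφ⟩
  have h1 := Cfsg.Agent.OddOrderCharacters.PF9.GaloisClifford.degree_one_of_comm φ.2 (fun a b => by
    rw [show a * b = b * a from hc.is_comm.comm a b]; group)
  have h2 : charDegree (φ : P → ℂ) = 1 := by
    have := (H614.charDegree_pos φ.2).2
    rw [h1] at this
    exact_mod_cast this.symm
  rw [h2] at hφ
  exact absurd hφ.symm (Nat.one_lt_pow ha.ne' hp.one_lt).ne'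

theorem rowIn_alt (p : ℕ) [hp : Fact p.Prime] (n : ℕ) (hn : 5 ≤ n) : RowIn p ↥(alternatingGroup (Fin n)) := by
  intro M hM P a ha hcd
  have : Nontrivial (Fin n) := Fin.nontrivial_iff_two_le.2 (by omega)
  have hMp : M.IsPrime := hM.2.1.isPrime
  have := Fintype.ofFinite ↥(alternatingGroup (Fin n))
  rcases alt_main hM (Blocks.PrincipalSection.isPBlock_principalBlock (M := M))
    ((S4652.result p M hM _).2 ⟨P, rfl⟩) with ⟨⟨χ, hχ, h1⟩, -⟩ | ⟨-, hc⟩
  · have h2 : vd p (χ : ↥(alternatingGroup (Fin n)) → ℂ) = 1 := by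
      rw [← h1]
      exact (S4736.blockHeight_principal p M χ).symm
    exact ⟨χ, hχ, by omega, by omega⟩
  · exact absurd hcd (not_cd hp.out ha hc)

end Cfsg.Agent.H93.HT
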