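import Cfsg.Agent.H93.HT.AltSix

/-!
# S4933: the almost simple groups with socle `A_6` not contained in `S_6`, `p = 2`: the main argument
-/

set_option autoImplicit false

open Subgroup

namespace Cfsg.Agent.H93.HT.Six

open Cfsg Cfsg.Agent.H316.HT Equiv Cfsg.Agent.H112.HT Cfsg.Agent.StdAlt.Six

universe u

variable {A : Type u} [Group A] (N : Subgroup A) [hN : N.Normal] (e : N ≃* A6)

theorem permAct_iff (x : A) : PermAct N e x ↔ NS (act N e x) := Iff.rfl

/-- the elements acting as permutations -/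
def T : Subgroup A where
  carrier := {x | NS (act N e x)}
  one_mem' := by
    show NS (act N e 1)
    rw [map_one]
    exact ⟨1, fun x => by simp⟩
  mul_mem' := by
    intro x y hx hy
    show NS (act N e (x * y))
    rw [map_mul]
    exact NS.mul hx hy
  inv_mem' := by
    intro x hx
    show NS (act N e x⁻¹)
    rw [map_inv]
    exact NS.inv hx

theorem mem_T {x : A} : x ∈ T N e ↔ NS (act N e x) := Iff.rfl

theorem le_T : N ≤ T N e := by
  intro x hx
  rw [mem_T]
  refine ⟨(e ⟨x, hx⟩ : A6), fun y => ?_⟩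
  rw [act_conj N e ⟨x, hx⟩ y]
  rfl

theorem index_T {x₀ : A} (hx₀ : ¬ NS (act N e x₀)) : (T N e).index = 2 := by
  rw [Subgroup.index_eq_two_iff]
  refine ⟨x₀, fun b => ?_⟩
  rw [mem_T, mem_T, map_mul]
  by_cases hb : NS (act N e b)
  · exact Or.inr ⟨hb, not_ns_mul_left hb hx₀⟩
  · exact Or.inl ⟨NS.mul_of_not hb hx₀, hb⟩

/-- the socle in `T` -/
noncomputable def eT : (N.subgroupOf (T N e)) ≃* A6 := (subgroupOfEquivOfLe (le_T N e)).trans e

theorem act_eT (x : T N e) (y : A6) : act (N.subgroupOf (T N e)) (eT N e) x y = act N e x y := by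
  rw [act_apply, act_apply]
  rfl

theorem relIndex_dvd [Finite A] (hC : centralizer (N : Set A) = ⊥) : (N.subgroupOf (T N e)).index ∣ 2 := by
  have hC' : centralizer ((N.subgroupOf (T N e) : Subgroup (T N e)) : Set (T N e)) = ⊥ := by
    rw [eq_bot_iff]
    intro x hx
    rw [mem_bot]
    apply Subtype.ext
    have h1 : (x : A) ∈ centralizer (N : Set A) := by
      rw [mem_centralizer_iff] at hx ⊢
      intro y hy
      exact congrArg Subtype.val (hx ⟨y, le_T N e hy⟩ hy)
    rw [hC, mem_bot] at h1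
    exact h1
  obtain ⟨f, hf⟩ := exists_emb (m := 4) (N.subgroupOf (T N e)) (by norm_num) (eT N e) hC' (fun x => by
    obtain ⟨σ, hσ⟩ : NS (act N e x) := x.2
    exact ⟨σ, fun y => by rw [act_eT]; exact hσ y⟩)
  exact index_dvd_two (m := 4) _ (eT N e) f hf

theorem index_dvd_four [Finite A] (hC : centralizer (N : Set A) = ⊥) {x₀ : A} (hx₀ : ¬ NS (act N e x₀)) :
    N.index ∣ 4 := by
  have h1 := Subgroup.relIndex_mul_index (le_T N e)
  rw [index_T N e hx₀] at h1
  rw [← h1]
  exact Nat.mul_dvd_mul_right (relIndex_dvd N e hC) 2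

theorem mv_conj_eq {α : MulAut A6} (h : NS α) (y : A6) : mv (α y) = mv y := by
  obtain ⟨σ, hσ⟩ := h
  rw [hσ y]
  exact mv_conj _ _

/-- **The case of a group not contained in `S_6`.** -/
theorem six [Finite A] (hC : centralizer (N : Set A) = ⊥) {x₀ : A} (hx₀ : ¬ NS (act N e x₀)) {M : Ideal AlgInt}
    (hM : IsPModular 2 M) {a : ℕ} (ha : 0 < a) : GoodOn 2 a M N := by
  classical
  have hp : Fact (Nat.Prime 2) := ⟨Nat.prime_two⟩
  have := Fintype.ofFinite A
  have := Fintype.ofFinite (T N e)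
  have := Fintype.ofFinite (N.subgroupOf (T N e))
  have hT2 := index_T N e hx₀
  have hTn : (T N e).Normal := Subgroup.normal_of_index_eq_two hT2
  have hcyc : IsCyclic ((T N e) ⧸ (N.subgroupOf (T N e))) :=
    isCyclic_of_card_dvd_prime (p := 2) (relIndex_dvd N e hC)
  let ψ : IrrCharacter (N.subgroupOf (T N e)) := H649.irrMap (eT N e).symm psi
  have hψv : ∀ t, (ψ : N.subgroupOf (T N e) → ℂ) t = (psi : A6 → ℂ) (eT N e t) := fun t => rfl
  have hψ : ψ ∈ principalBlock M (N.subgroupOf (T N e)) := by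
    rw [← H649.blkMap_principalBlock (eT N e).symm]
    exact H649.irrMap_mem_blkMap.2 (psi_mem hM)
  obtain ⟨ξ, hξ, hξv, hξd⟩ := lift_mem hM (N.subgroupOf (T N e)) hcyc ψ hψ (by
    intro g t
    rw [hψv, hψv, psi_apply, psi_apply]
    have h1 : eT N e (MulAut.conjNormal g t) = act (N.subgroupOf (T N e)) (eT N e) g (eT N e t) := by
      show _ = eT N e (MulAut.conjNormal g ((eT N e).symm (eT N e t)))
      rw [MulEquiv.symm_apply_apply]
    rw [h1, act_eT, mv_conj_eq g.2])
  obtain ⟨χ, hχ⟩ := Blocks.Over.exists_over (T N e) ξ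
  have hχB : χ ∈ principalBlock M A := over_mem hM (T N e) ⟨1, by rw [hT2, pow_one]⟩ hξ hχ
  -- the values on the socle
  have hval : ∀ y : A6, (ξ : T N e → ℂ) ⟨e.symm y, le_T N e (e.symm y).2⟩ = (psi : A6 → ℂ) y := by
    intro y
    have h1 := hξv ((eT N e).symm y)
    rw [hψv, MulEquiv.apply_symm_apply] at h1
    exact h1
  have h10 : charDegree (χ : A → ℂ) = 10 := by
    rcases H614.restrict_two (T N e) hT2 χ.2 ξ.2 hχ with h1 | ⟨h1, -⟩
    · exfalso
      have h2 := h1 ⟨e.symm C0, le_T N e (e.symm C0).2⟩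
      have h3 := h1 ⟨e.symm (act N e x₀ C0), le_T N e (e.symm (act N e x₀ C0)).2⟩
      rw [hval] at h2 h3
      have h4 : ((e.symm (act N e x₀ C0) : N) : A) = x₀ * (e.symm C0 : N) * x₀⁻¹ := by
        rw [act_apply, MulEquiv.symm_apply_apply]
      have h5 : (χ : A → ℂ) (x₀ * (e.symm C0 : N) * x₀⁻¹) = (χ : A → ℂ) (e.symm C0 : N) :=
        Characters.Core.isIrr_isClassFunction χ.2 _ _
      have h6 : (psi : A6 → ℂ) (act N e x₀ C0) = (psi : A6 → ℂ) C0 := by
        rw [← h3, ← h2]
        show (χ : A → ℂ) ((e.symm (act N e x₀ C0) : N) : A) = _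
        rw [h4]
        exact h5
      rw [psi_apply, psi_apply, Int.cast_inj] at h6
      have h7 : mv (act N e x₀ C0) = mv C0 := by
        have := mv_le (C0 : Perm (Fin 6))
        have := mv_le (act N e x₀ C0 : Perm (Fin 6))
        omega
      exact hx₀ (ns_of_mv_three (x := C0) mv_c0 (by rw [h7]; exact mv_c0))
    · have h2 : (ξ : T N e → ℂ) 1 = 5 := by
        have h3 := hval 1
        rw [psi_apply] at h3
        have h4 : mv ((1 : A6) : Perm (Fin 6)) = 0 := by decide +kernel
        rw [h4, map_one] at h3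
        have h5 : (⟨((1 : N) : A), le_T N e (1 : N).2⟩ : T N e) = 1 := rfl
        rw [h5] at h3
        rw [h3]
        norm_num
      rw [h2] at h1
      have h3 := Cfsg.Agent.H686.CharKit.charDegree_irr χ
      rw [h1] at h3
      have h4 : (charDegree (χ : A → ℂ) : ℂ) = ((10 : ℕ) : ℂ) := by rw [h3]; norm_num
      exact_mod_cast h4
  have hvd : vd 2 (χ : A → ℂ) = 1 := by
    unfold vd
    rw [h10, show (10 : ℕ) = 2 ^ 1 * 5 by norm_num, Nat.factorization_mul (by norm_num) (by norm_num),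
      Nat.Prime.factorization_pow Nat.prime_two]
    simp [Nat.factorization_eq_zero_of_not_dvd]
  refine ⟨χ, hχB, ?_, by omega, by omega⟩
  by_contra hcon
  push Not at hcon
  have h1 := Cfsg.Agent.H678.Codeg.charDegree_dvd_index χ N (fun n hn => hcon n hn)
  rw [h10] at h1
  have h2 := h1.trans (index_dvd_four N e hC hx₀)
  norm_num at h2

end Cfsg.Agent.H93.HT.Six
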