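import Cfsg.Agent.H93.HT.Sym
import Cfsg.Agent.H93.HT.SymFive
import Cfsg.Agent.H93.HT.AltSixB

/-!
# S4933: the almost simple groups with alternating socle

* `rowOut_alt` : `RowOut p (A_n)`.
-/

set_option autoImplicit false

open Subgroup

namespace Cfsg.Agent.H93.HT

open Cfsg Cfsg.Agent.H316.HT Equiv Cfsg.Agent.H112.HT

universe u

theorem le_of_not_dvd {A : Type u} [Group A] [Finite A] {p : ℕ} [hp : Fact p.Prime] (N : Subgroup A) [N.Normal]
    (h : ¬ p ∣ N.index) (P : Sylow p A) : (P : Subgroup A) ≤ N := by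
  intro x hx
  refine mem_of_pelt N h ?_
  have h2 := P.2
  rw [IsPGroup.iff_orderOf] at h2
  obtain ⟨k, hk⟩ := h2 ⟨x, hx⟩
  exact ⟨k, by rw [← hk]; exact (Subgroup.orderOf_coe (⟨x, hx⟩ : (P : Subgroup A)))⟩

theorem two_of {A : Type u} [Group A] [Finite A] {p : ℕ} [hp : Fact p.Prime] (N : Subgroup A) [N.Normal] (P : Sylow p A)
    (hPN : ¬ (P : Subgroup A) ≤ N) {k : ℕ} (h : N.index ∣ 2 ^ k) : p = 2 := by
  by_contra h2
  apply hPN
  refine le_of_not_dvd N (fun h3 => h2 ?_) P
  exact (Nat.prime_dvd_prime_iff_eq hp.out Nat.prime_two).1 (hp.out.dvd_of_dvd_pow (h3.trans h))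

/-- **Alternating socle, outer `p`-automorphisms.** -/
theorem rowOut_alt (p : ℕ) [hp : Fact p.Prime] (n : ℕ) (hn : 5 ≤ n) : RowOut p ↥(alternatingGroup (Fin n)) := by
  intro A _ _ N _ e hC M hM P a ha hcd hPN
  obtain ⟨e⟩ := e
  obtain ⟨m, rfl⟩ : ∃ m, n = m + 2 := ⟨n - 2, by omega⟩
  by_cases hall : ∀ x : A, PermAct N e x
  · obtain ⟨f, hf⟩ := exists_emb N (by omega) e hC hall
    have hi := index_dvd_two N e f hf
    have h2 : p = 2 := two_of N P hPN (k := 1) (by rwa [pow_one])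
    subst h2
    have hi1 : N.index ≠ 1 := by
      intro h1
      apply hPN
      rw [Subgroup.index_eq_one.1 h1]
      exact le_top
    refine good_of_sym N (by omega) e hC hall hi1 ?_ ha
    rcases Nat.lt_or_ge m 4 with h4 | h4
    · obtain rfl : m = 3 := by omega
      exact Five.sym_five hM
    · have : Nontrivial (Fin (m + 2)) := Fin.nontrivial_iff_two_le.2 (by omega)
      exact sym_one hM (by rw [Fintype.card_fin]; omega)
  · push Not at hall
    obtain ⟨x₀, hx₀⟩ := hall
    have h4 : m = 4 := by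
      by_contra h4
      apply hx₀
      obtain ⟨σ, hσ⟩ := (Cfsg.Agent.S2119.result (m + 2) (by omega) (by omega)).2 (act N e x₀)
      refine ⟨σ, fun y => ?_⟩
      rw [← hσ, MulAut.conjNormal_apply]
    subst h4
    have h2 : p = 2 := two_of N P hPN (k := 2) (Six.index_dvd_four N e hC hx₀)
    subst h2
    exact Six.six N e hC hx₀ hM ha

end Cfsg.Agent.H93.HT
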