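import Cfsg.Agent.StdAlt.Six.AutLemmas

/-!
# S4933: numbers for the symmetric group of degree six

* `key` : the orders of the elements; `sum_eq` : the sum of the values of the character of degree five over the
  elements of odd order.
-/

set_option autoImplicit false

namespace Cfsg.Agent.H93.HT.Six

open Equiv Cfsg.Agent.StdAlt.Six

/-- `g ^ 3 = 1` -/
def o3 (g : Perm (Fin 6)) : Prop := ∀ x, g (g (g x)) = x
/-- `g ^ 5 = 1` -/
def o5 (g : Perm (Fin 6)) : Prop := ∀ x, g (g (g (g (g x)))) = x
/-- `g ^ 4 = 1` -/
def o4 (g : Perm (Fin 6)) : Prop := ∀ x, g (g (g (g x))) = x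
/-- `g ^ 6 = 1` -/
def o6 (g : Perm (Fin 6)) : Prop := ∀ x, g (g (g (g (g (g x))))) = x

instance : DecidablePred o3 := fun g => by unfold o3; infer_instance
instance : DecidablePred o5 := fun g => by unfold o5; infer_instance
instance : DecidablePred o4 := fun g => by unfold o4; infer_instance
instance : DecidablePred o6 := fun g => by unfold o6; infer_instance

set_option maxHeartbeats 2000000 in
theorem key : ∀ g : Perm (Fin 6), o3 g ∨ o5 g ∨ o4 g ∨ o6 g := by decide +kernel

set_option maxHeartbeats 2000000 in
theorem sum_eq : ∑ g ∈ (Finset.univ : Finset (Perm (Fin 6))).filter (fun g => o3 g ∨ o5 g), (5 - (mv g : ℤ)) = 45 := by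
  decide +kernel

end Cfsg.Agent.H93.HT.Six
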