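import Cfsg.Agent.H93.HT.AltOut
import Cfsg.Agent.H112.HT.Ind
import Cfsg.Agent.H614.IndexTwo
import Cfsg.Agent.Blocks.Over
import Cfsg.Agent.H93.HT.SixNum
import Cfsg.Agent.H678.Codeg
import Cfsg.Agent.S0157
import Mathlib.GroupTheory.GroupAction.MultipleTransitivity

/-!
# S4933: the almost simple groups with socle `A_6` not contained in `S_6`, `p = 2`

* `six` : the stabilizer `T` of the character `psi` of degree five has index two; `psi` extends to `T`, and the
  characters over the extension have degree ten.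
-/

set_option autoImplicit false

open Subgroup

namespace Cfsg.Agent.H93.HT.Six

open Cfsg Cfsg.Agent.H316.HT Equiv Cfsg.Agent.H112.HT Cfsg.Agent.StdAlt.Six

universe u

instance : MulAction.IsMultiplyPretransitive A6 (Fin 6) 4 := by
  have h := alternatingGroup.isMultiplyPretransitive (Fin 6)
  simpa using h

theorem fix_eq (g : A6) : Nat.card (MulAction.fixedBy (Fin 6) g) = 6 - mv g := by
  have h1 : Nat.card (MulAction.fixedBy (Fin 6) g) = ((g : Perm (Fin 6)).supportᶜ).card := by
    rw [Nat.card_eq_fintype_card, ← Set.toFinset_card]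
    congr 1
    ext x
    rw [Set.mem_toFinset, MulAction.mem_fixedBy, Finset.mem_compl, Perm.notMem_support]
    rfl
  rw [h1, Finset.card_compl, Fintype.card_fin]
  rfl

theorem mv_le (g : Perm (Fin 6)) : mv g ≤ 6 := by
  have := Finset.card_le_univ g.support
  rwa [Fintype.card_fin] at this

/-- the character of degree five -/
noncomputable def psi : IrrCharacter A6 :=
  ⟨fun g => (Nat.card (MulAction.fixedBy (Fin 6) g) : ℂ) - 1, by
    have h4 : MulAction.IsMultiplyPretransitive A6 (Fin 6) 4 := inferInstance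
    have h2 : MulAction.IsMultiplyPretransitive A6 (Fin 6) 2 :=
      MulAction.isMultiplyPretransitive_of_le (n := 4) (by norm_num) (by simp)
    have h1 : MulAction.IsPretransitive A6 (Fin 6) := MulAction.isPretransitive_of_is_two_pretransitive
    exact (S0157.result (Fin 6) (by simp)).2 h2⟩

theorem psi_apply (g : A6) : (psi : A6 → ℂ) g = ((5 - (mv g : ℤ) : ℤ) : ℂ) := by
  show (Nat.card (MulAction.fixedBy (Fin 6) g) : ℂ) - 1 = _
  rw [fix_eq, Nat.cast_sub (mv_le _)]
  push_cast
  ring

theorem pow_three_iff (g : Perm (Fin 6)) : g ^ 3 = 1 ↔ o3 g := by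
  rw [Equiv.ext_iff]
  exact Iff.rfl

theorem pow_five_iff (g : Perm (Fin 6)) : g ^ 5 = 1 ↔ o5 g := by
  rw [Equiv.ext_iff]
  exact Iff.rfl

theorem pow_four (g : Perm (Fin 6)) (h : o4 g) : g ^ 4 = 1 := Equiv.ext h

theorem pow_six (g : Perm (Fin 6)) (h : o6 g) : g ^ 6 = 1 := Equiv.ext h

theorem odd_iff (g : Perm (Fin 6)) : ¬ 2 ∣ orderOf g ↔ o3 g ∨ o5 g := by
  constructor
  · intro h
    have hc : Nat.Coprime (orderOf g) 2 := ((Nat.Prime.coprime_iff_not_dvd Nat.prime_two).2 h).symm
    rcases key g with h1 | h1 | h1 | h1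
    · exact Or.inl h1
    · exact Or.inr h1
    · have h2 : orderOf g ∣ 2 ^ 2 := orderOf_dvd_of_pow_eq_one (pow_four g h1)
      have h3 := Nat.eq_one_of_dvd_coprimes (hc.pow_right 2) dvd_rfl h2
      rw [orderOf_eq_one_iff] at h3
      left
      rw [h3]
      intro x
      rfl
    · have h2 : orderOf g ∣ 2 * 3 := orderOf_dvd_of_pow_eq_one (pow_six g h1)
      have h3 := hc.dvd_of_dvd_mul_left h2
      exact Or.inl ((pow_three_iff g).1 (orderOf_dvd_iff_pow_eq_one.1 h3))
  · rintro (h | h) h2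
    · exact absurd (h2.trans (orderOf_dvd_of_pow_eq_one ((pow_three_iff g).2 h))) (by norm_num)
    · exact absurd (h2.trans (orderOf_dvd_of_pow_eq_one ((pow_five_iff g).2 h))) (by norm_num)

theorem even_of_odd_order {g : Perm (Fin 6)} (h : ¬ 2 ∣ orderOf g) : g ∈ alternatingGroup (Fin 6) := by
  rw [Equiv.Perm.mem_alternatingGroup]
  have h1 : orderOf (Perm.sign g) ∣ orderOf g := orderOf_map_dvd _ g
  rcases Int.units_eq_one_or (Perm.sign g) with h2 | h2
  · exact h2
  · exfalso
    apply h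
    refine dvd_trans ?_ h1
    rw [h2]
    refine (orderOf_eq_prime (by decide) (by decide)).symm.dvd

theorem psi_mem {M : Ideal AlgInt} (hM : IsPModular 2 M) : psi ∈ principalBlock M A6 := by
  classical
  have hp : Fact (Nat.Prime 2) := ⟨Nat.prime_two⟩
  apply Cfsg.Agent.H892.EP.mem_of_regSum hM
  have h1 : ∑ᶠ x ∈ {x : A6 | ¬ 2 ∣ orderOf x}, (psi : A6 → ℂ) x =
      ((∑ g ∈ (Finset.univ : Finset (Perm (Fin 6))).filter (fun g => o3 g ∨ o5 g), (5 - (mv g : ℤ)) : ℤ) : ℂ) := by
    have h2 : (∑ g ∈ (Finset.univ : Finset (Perm (Fin 6))).filter (fun g => o3 g ∨ o5 g), (5 - (mv g : ℤ))) =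
        ∑ g ∈ (Finset.univ : Finset A6).filter (fun g => ¬ 2 ∣ orderOf g), (5 - (mv g : ℤ)) := by
      symm
      refine Finset.sum_bij (fun g _ => (g : Perm (Fin 6))) ?_ ?_ ?_ ?_
      · intro g hg
        rw [Finset.mem_filter] at hg ⊢
        refine ⟨Finset.mem_univ _, (odd_iff _).1 ?_⟩
        rw [Subgroup.orderOf_coe]
        exact hg.2
      · intro g _ h _ hgh
        exact Subtype.ext hgh
      · intro g hg
        rw [Finset.mem_filter] at hg
        have h3 := (odd_iff g).2 hg.2
        refine ⟨⟨g, even_of_odd_order h3⟩, ?_, rfl⟩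
        rw [Finset.mem_filter]
        refine ⟨Finset.mem_univ _, ?_⟩
        rw [← Subgroup.orderOf_coe]
        exact h3
      · intro g _
        rfl
    have h4 : {x : A6 | ¬ 2 ∣ orderOf x} = ↑((Finset.univ : Finset A6).filter (fun g => ¬ 2 ∣ orderOf g)) := by
      ext x
      exact ⟨fun h => Finset.mem_coe.2 (Finset.mem_filter.2 ⟨Finset.mem_univ _, h⟩),
        fun h => (Finset.mem_filter.1 (Finset.mem_coe.1 h)).2⟩
    rw [h2, Int.cast_sum, ← Finset.sum_congr rfl fun g _ => psi_apply g, h4, finsum_mem_coe_finset]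
  rw [h1, sum_eq]
  norm_num

end Cfsg.Agent.H93.HT.Six
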